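import Cfsg.Agent.H799.PB.LyBase

/-!
# ORE (S2443), row Ly: the centralizers of the elements of even order (helper204)

`card_le_even` : `|C(g)| ≤ 120960` for `g` of even order, `g² ≠ 1`.
-/

set_option autoImplicit false

namespace Cfsg.Agent.H204.Ore.LyEven

open Subgroup Equiv Cfsg
open Cfsg.Agent Cfsg.Agent.SporRec Cfsg.Agent.SporRec.TwoAn Cfsg.Agent.SporRec.LyType Cfsg.Agent.SporRec.LyFiveCore
open Cfsg.Agent.TypeM.McLFromLy Cfsg.Agent.CpAutLy.Types Cfsg.Agent.CpAutLy.Cov

universe u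

variable {G : Type u} [Group G] [Finite G]

theorem cent_pow_le (g : G) (k : ℕ) : centralizer ({g} : Set G) ≤ centralizer ({g ^ k} : Set G) := by
  intro x hx
  rw [mem_centralizer_singleton_iff] at hx ⊢
  exact ((show Commute x g from hx).pow_right k).eq

theorem card_cent_le_of_pow (g : G) (k : ℕ) :
    Nat.card (centralizer ({g} : Set G)) ≤ Nat.card (centralizer ({g ^ k} : Set G)) :=
  Nat.le_of_dvd Nat.card_pos (card_dvd_of_le (cent_pow_le g k))

/-- a power of prime order -/
theorem exists_pow_prime {g : G} {r : ℕ} (hr : r.Prime) (h : r ∣ orderOf g) : ∃ k : ℕ, orderOf (g ^ k) = r := by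
  obtain ⟨m, hm⟩ := h
  have hm0 : m ≠ 0 := by
    rintro rfl
    rw [mul_zero] at hm
    exact (orderOf_pos g).ne' hm
  refine ⟨m, ?_⟩
  rw [orderOf_pow' _ hm0, hm, Nat.gcd_mul_left_left, Nat.mul_div_cancel _ (Nat.pos_of_ne_zero hm0)]

/-- elements of order 4 -/
theorem card_le_four (L : LyType G) {h : G} (hh : orderOf h = 4) : Nat.card (centralizer ({h} : Set G)) ≤ 80640 := by
  have h2 : orderOf (h * h) = 2 := by
    rw [← pow_two, orderOf_pow' _ (by norm_num), hh]
    decide
  have h3 : h * h * (h * h) = 1 := by rw [← pow_two (h * h), ← h2, pow_orderOf_eq_one]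
  have h4 : h * h ≠ 1 := by
    intro h5
    rw [h5, orderOf_one] at h2
    norm_num at h2
  obtain ⟨L', hL'⟩ := L.exists_rebase h3 h4
  have hth : L'.t * h = h * L'.t := by rw [hL', mul_assoc]
  set y := xc hth with hy
  have hyy : y * y = L'.K.z := Subtype.ext (hL'.symm.trans L'.hz.symm)
  have hσ : L'.K.π y * L'.K.π y = 1 := by rw [← map_mul, hyy, L'.K.π_z]
  have h8 : ¬ 8 ∣ (L'.K.π y).support.card := by
    intro h8
    have := L'.K.sq_eq_one_iff.2 ⟨hσ, h8⟩
    rw [hyy] at this
    exact L'.K.z_ne this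
  have h11 : (L'.K.π y).support.card ≤ 11 := (Finset.card_le_univ _).trans (by simp)
  have hs : (L'.K.π y).support.card = 4 := by
    obtain ⟨k, hk⟩ := L'.K.four_dvd hσ
    omega
  have hct := LyType.cycleType_of_involution hσ (k := 2) hs
  have h5 := CpAut.Cyc.card_cent_dvd L'.K y
  have h6 : Nat.card (centralizer ({L'.K.π y} : Set (Perm (Fin 11)))) = 40320 := by
    rw [Equiv.Perm.nat_card_centralizer, hct]
    decide
  rw [h6, nn_eq hth] at h5
  have h7 : nn h L'.t = Nat.card (centralizer ({h} : Set G)) := by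
    unfold nn
    have : centralizer ({h} : Set G) ⊓ centralizer ({L'.t} : Set G) = centralizer ({h} : Set G) := by
      rw [inf_eq_left, hL', ← pow_two]
      exact cent_pow_le h 2
    rw [this]
  rw [← h7]
  exact Nat.le_of_dvd (by norm_num) h5

/-- **elements of even order** -/
theorem card_le_even (L : LyType G) {f : G} (hf : Five L f) {g : G} (h2 : 2 ∣ orderOf g) (hg : g * g ≠ 1) :
    Nat.card (centralizer ({g} : Set G)) ≤ 120960 := by
  obtain ⟨k, hk⟩ := exists_pow_prime Nat.prime_two h2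
  by_cases hr : ∃ r : ℕ, r.Prime ∧ r ≠ 2 ∧ r ∣ orderOf g
  · obtain ⟨r, hr, hr2, hrd⟩ := hr
    obtain ⟨l, hl⟩ := exists_pow_prime hr hrd
    have hc : g ^ k * g ^ l = g ^ l * g ^ k := by rw [← pow_add, ← pow_add, add_comm]
    have h1 : Nat.card (centralizer ({g} : Set G)) ≤ nn (g ^ l) (g ^ k) :=
      Nat.le_of_dvd Nat.card_pos (card_dvd_of_le (le_inf (cent_pow_le g l) (cent_pow_le g k)))
    refine h1.trans ?_
    rcases H799.PB.nn_table L hf hr hr2 hl hk hc with ⟨-, h | h | h⟩ | ⟨-, ⟨-, h⟩ | h⟩ | ⟨-, h⟩ | ⟨-, h⟩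
    · rw [h]
    · rw [h]; norm_num
    · rw [h]; norm_num
    · rw [h]; norm_num
    · exact (Nat.le_of_dvd (by norm_num) h).trans (by norm_num)
    · rw [h]; norm_num
    · exact (Nat.le_of_dvd (by norm_num) h).trans (by norm_num)
  · push Not at hr
    have h4 : 4 ∣ orderOf g := by
      obtain ⟨m, hm⟩ := h2
      have hm1 : m ≠ 1 := by
        rintro rfl
        apply hg
        rw [← pow_two, ← mul_one 2, ← hm, pow_orderOf_eq_one]
      obtain ⟨p, hp, hpm⟩ := Nat.exists_prime_and_dvd hm1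
      have hp2 : p = 2 := by
        by_contra h
        exact hr p hp h (hm ▸ hpm.mul_left 2)
      rw [hm]
      subst hp2
      exact Nat.mul_dvd_mul_left 2 hpm
    obtain ⟨m, hm⟩ := h4
    have hm0 : m ≠ 0 := by
      rintro rfl
      rw [mul_zero] at hm
      exact (orderOf_pos g).ne' hm
    have h5 : orderOf (g ^ m) = 4 := by
      rw [orderOf_pow' _ hm0, hm, Nat.gcd_mul_left_left, Nat.mul_div_cancel _ (Nat.pos_of_ne_zero hm0)]
    exact (card_cent_le_of_pow g m).trans ((card_le_four L h5).trans (by norm_num))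

end Cfsg.Agent.H204.Ore.LyEven
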