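import Cfsg.Agent.H799.PB.Ly3
import Cfsg.Agent.H582.Ly.Three
import Cfsg.Agent.H204.Ore.LyEven

/-!
# ORE (S2443), row Ly: elements of order 5 (helper204)

* `conj_into_core` : elements of order 5 commuting with an involution are conjugate into `E = O(C(f))`;
* `three_part` : `3 ^ 3` does not divide `|C(u)|`, `1 ≠ u ∈ E`;
* `not_dvd_of_odd` : a 3-element with centralizer of odd order commutes with no group of order `5 ^ 4`.
-/

set_option autoImplicit false

namespace Cfsg.Agent.H204.Ore.LyFive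

open Subgroup Equiv Cfsg
open Cfsg.Agent Cfsg.Agent.SporRec Cfsg.Agent.SporRec.TwoAn Cfsg.Agent.SporRec.LyType Cfsg.Agent.SporRec.LyFiveCore
open Cfsg.Agent.SporRec.LyFiveSix Cfsg.Agent.SporRec.LyFiveFrame Cfsg.Agent.SporRec.LyFiveTwenty
open Cfsg.Agent.TypeM.McLFromLy Cfsg.Agent.CpAutLy.Types Cfsg.Agent.CpAutLy.Cov
open Cfsg.Agent.H799.PB Cfsg.Agent.H582.Ly

universe u

variable {G : Type u} [Group G] [Finite G] {L : LyType G} {f : G}

/-- elements of order 5 commuting with an involution are conjugate into `E` -/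
theorem conj_into_core (hf : Five L f) {w s : G} (hw : orderOf w = 5) (hs : orderOf s = 2) (hsw : s * w = w * s) :
    ∃ g : G, g * w * g⁻¹ ∈ core f := by
  obtain ⟨-, hv25⟩ := card_core_of_dvd hf (LyA1.dvd_card_core hf)
  obtain ⟨v, _, _, hv, hv1, -, hvt, hvf, -⟩ := exists_vwh hf
  have h25 := hv25 v hv hvt hvf
  obtain ⟨h1, h2⟩ := TypeM.Two.MT.sq_of_orderOf hs
  obtain ⟨g₀, hg₀⟩ := L.conj_of_involutions h1 h2 hv hv1
  have hwv : g₀ * w * g₀⁻¹ * v = v * (g₀ * w * g₀⁻¹) := by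
    rw [← hg₀]
    exact (CpAutLy.McLThree.conj_comm g₀ hsw).symm
  set V := centralizer ({v} : Set G) with hVdef
  have hov : orderOf v = 2 := by
    have : Fact (Nat.Prime 2) := ⟨Nat.prime_two⟩
    exact orderOf_eq_prime (by rw [pow_two, hv]) hv1
  have hV : Nat.card V = 39916800 := H513.NilpLy.card_inv L hov
  set B : Subgroup V := (core f ⊓ V).subgroupOf V with hB
  have hBc : Nat.card B = 25 := by
    rw [← h25]
    exact Nat.card_congr (Subgroup.subgroupOfEquivOfLe inf_le_right).toEquiv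
  have hidx : ¬ 5 ∣ B.index :=
    not_dvd_index (k := 2) (a := 1596672) (b := 1) (by rw [hV]; norm_num) (by rw [hBc]; norm_num) Nat.prime_five (by norm_num)
  obtain ⟨c, hc⟩ := exists_conj_le Nat.prime_five (A := zpowers (⟨g₀ * w * g₀⁻¹, mem_centralizer_singleton_iff.2 hwv⟩ : V))
    (isPGroup_zpowers' Nat.prime_five (by rw [Subgroup.orderOf_mk, CpAutLy.McLThree.orderOf_conj', hw])) hidx
  have h3 := (mem_subgroupOf.1 (hc _ (mem_zpowers _))).1
  refine ⟨c * g₀, ?_⟩
  have h4 : (c : G) * g₀ * w * ((c : G) * g₀)⁻¹ = c * (g₀ * w * g₀⁻¹) * (c : G)⁻¹ := by group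
  rw [h4]
  exact h3

/-- `3 ^ 3` does not divide the order of the automorphism group of a group of order dividing `5 ^ 5` -/
theorem not_dvd_aut {R : Type u} [Group R] [Finite R] (hR : Nat.card R ∣ 5 ^ 5) : ¬ 3 ^ 3 ∣ Nat.card (MulAut R) := by
  intro h
  have : Fact (Nat.Prime 5) := ⟨Nat.prime_five⟩
  obtain ⟨n, hn, hn'⟩ := (Nat.dvd_prime_pow Nat.prime_five).1 hR
  have h1 : (frattini R).index ∣ 5 ^ n := by rw [← hn']; exact (frattini R).index_dvd_card
  obtain ⟨r, hr, hr'⟩ := (Nat.dvd_prime_pow Nat.prime_five).1 h1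
  have h2 := h.trans (H541.AutFrattini.card_aut_dvd hn' hr')
  have h3 : (3 ^ 3 : ℕ).Coprime (5 ^ (r * (n - r))) := Nat.Coprime.pow _ _ (by norm_num)
  have h4 := h3.dvd_of_dvd_mul_left h2
  have h5 : r ≤ 5 := hr.trans hn
  interval_cases r <;> revert h4 <;> decide

/-- `5 ^ 6` divides the order of the centralizer only for the conjugates of `⟨f⟩` -/
theorem exists_of_six (hf : Five L f) (hcard : Nat.card G = 51765179004000000) {u : G}
    (h : 5 ^ 6 ∣ Nat.card (centralizer ({u} : Set G))) : ∃ g : G, g * u * g⁻¹ ∈ zpowers f := by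
  have : Fact (Nat.Prime 5) := ⟨Nat.prime_five⟩
  obtain ⟨T, hT⟩ := Sylow.exists_subgroup_card_pow_prime 5 h
  set T' := T.map (centralizer ({u} : Set G)).subtype with hT'
  have hT'c : Nat.card T' = 5 ^ 6 := by rw [hT', card_map_of_injective (subtype_injective _), hT]
  obtain ⟨S, hES, -, hS6⟩ := exists_sylow hf hcard
  have hS6' : Nat.card (S : Subgroup G) = 5 ^ 6 := hS6
  have hidx : ¬ 5 ∣ (S : Subgroup G).index :=
    not_dvd_index (k := 6) (a := 3312971456256) (b := 1) (by rw [hcard]; norm_num) (by rw [hS6', mul_one])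
      Nat.prime_five (by norm_num)
  obtain ⟨g, hg⟩ := exists_conj_le Nat.prime_five (IsPGroup.of_card hT'c) hidx
  have hle : T'.map (MulAut.conj g).toMonoidHom ≤ (S : Subgroup G) := by
    rintro _ ⟨x, hx, rfl⟩
    exact hg x hx
  have heq : T'.map (MulAut.conj g).toMonoidHom = (S : Subgroup G) := by
    apply eq_of_le_of_card_ge hle
    rw [hS6', card_map_of_injective (MulAut.conj g).injective, hT'c]
  refine ⟨g, ?_⟩
  have hcomm : ∀ e ∈ core f, e * (g * u * g⁻¹) = g * u * g⁻¹ * e := by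
    intro e he
    have h1 : e ∈ T'.map (MulAut.conj g).toMonoidHom := by rw [heq]; exact hES he
    obtain ⟨x, hx, hxe⟩ := h1
    obtain ⟨y, -, rfl⟩ := hx
    have h2 : (y : G) * u = u * y := mem_centralizer_singleton_iff.1 y.2
    have hxe' : g * (y : G) * g⁻¹ = e := hxe
    rw [← hxe']
    exact CpAutLy.McLThree.conj_comm g h2
  have h1 : g * u * g⁻¹ ∈ core f := cent_core_le hf (mem_centralizer_iff.2 fun e he => hcomm e he)
  exact (H799.PB.extra hf).center _ h1 fun k hk => (hcomm k hk).symm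

/-- the 3-part of the centralizers of the elements of `E` -/
theorem three_part (hf : Five L f) (hcard : Nat.card G = 51765179004000000) {u : G} (hu : u ∈ core f) (hu1 : u ≠ 1) :
    ¬ 3 ^ 3 ∣ Nat.card (centralizer ({u} : Set G)) := by
  have h5F : Fact (Nat.Prime 5) := ⟨Nat.prime_five⟩
  have h3F : Fact (Nat.Prime 3) := ⟨Nat.prime_three⟩
  by_cases hA : ∃ g : G, g * u * g⁻¹ ∈ zpowers f
  · obtain ⟨g, hg⟩ := hA
    rw [CpAutLy.McLThree.card_cent_conj (x := u) (g := g) rfl, Ly3.cent_eq hf hg (fun h => hu1 (conj_eq_one_iff.1 h)),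
      (H799.PB.extra hf).card_centralizer]
    norm_num
  · have h6 : ¬ 5 ^ 6 ∣ Nat.card (centralizer ({u} : Set G)) := fun h => hA (exists_of_six hf hcard h)
    push Not at hA
    have hno : ∀ g : G, g * u * g⁻¹ ≠ f := fun g hg => hA g (by rw [hg]; exact mem_zpowers f)
    have huF : u ∉ zpowers f := by
      have := hA 1
      rwa [one_mul, inv_one, mul_one] at this
    intro h
    have hC := centric hf hcard hu huF hno
    obtain ⟨P, hP⟩ := Sylow.exists_subgroup_card_pow_prime 3 (G := ↥(centralizer ({u} : Set G))) (n := 3) h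
    have h1 := Ly3.card_dvd_of_centric hC P (by rw [hP]; norm_num)
    rw [hP] at h1
    refine not_dvd_aut ?_ h1
    have h2 : IsPGroup 5 ↥(pCore 5 ↥(centralizer ({u} : Set G))) := Cfsg.Agent.Lib.Cores.pCore_isPGroup 5
    obtain ⟨n, hn⟩ := IsPGroup.iff_card.1 h2
    have h3 : Nat.card ↥(pCore 5 ↥(centralizer ({u} : Set G))) ∣ Nat.card (centralizer ({u} : Set G)) :=
      card_subgroup_dvd_card _
    rw [hn] at h3 ⊢
    have h4 : n ≤ 5 := by
      by_contra hcon
      exact h6 ((pow_dvd_pow 5 (by omega)).trans h3)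
    exact pow_dvd_pow 5 h4

/-- 5-subgroups of order at least `5 ^ 4` contain a conjugate of `f` -/
theorem exists_conj_mem (hf : Five L f) (h7 : ¬ 5 ^ 7 ∣ Nat.card G) {B : Subgroup G} (hB : IsPGroup 5 ↥B)
    (hd : 5 ^ 4 ∣ Nat.card ↥B) : ∃ g : G, g * f * g⁻¹ ∈ B := by
  have hE := H799.PB.extra hf
  have hin := LyFiveSix.fiveIn hf hE.card
  refine H513.NilpTools.exists_conj_mem_of_extra Nat.prime_five hin.f5 (E := core f) hE.card hin.mem hin.cent
    (fun g hg e he => hin.norm g ?_ e he) hE.commutator hE.center ?_ h7 hB hd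
  · rw [hg, mul_inv_cancel_right]
    exact mem_zpowers f
  · rw [hin.card_centralizer]
    norm_num

theorem nn_five (hf : Five L f) : nn f L.t = 3600 := by
  rw [← nn_eq hf.comm.symm]
  have h1 : (xc hf.comm.symm) ^ 5 = 1 := Subtype.ext hf.pow
  have h2 : xc hf.comm.symm ≠ 1 := fun h => f_ne hf (congrArg Subtype.val h)
  have hct : (L.K.π (xc hf.comm.symm)).cycleType = {5} := by
    have h1 : (L.K.π (xc hf.comm.symm)).IsCycle := hf.cyc
    rw [h1.cycleType]
    exact congrArg (fun n : ℕ => ({n} : Multiset ℕ)) hf.card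
  rcases cent_cases L.K Nat.prime_five (by norm_num) h1 h2 with ⟨h, -⟩ | ⟨-, ⟨-, h⟩ | ⟨h, -⟩⟩ | ⟨h, -⟩ | ⟨h, -⟩
  · omega
  · exact h
  · rw [hct] at h
    exact absurd h (by decide)
  · omega
  · omega

/-- a 3-element commuting with `f` commutes with an involution -/
theorem exists_inv_of_comm (hf : Five L f) {g : G} {a : ℕ} (hg : orderOf g = 3 ^ a) (hgf : g * f = f * g) :
    ∃ s : G, orderOf s = 2 ∧ s * g = g * s := by
  set C := centralizer ({f} : Set G) with hC
  have hCc : Nat.card C = 2250000 := by rw [hC, (H799.PB.extra hf).card_centralizer]; norm_num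
  set B : Subgroup C := (C ⊓ centralizer ({L.t} : Set G)).subgroupOf C with hB
  have hBc : Nat.card B = 3600 := by
    rw [← nn_five hf]
    exact Nat.card_congr (Subgroup.subgroupOfEquivOfLe inf_le_left).toEquiv
  have hidx : ¬ 3 ∣ B.index :=
    not_dvd_index (k := 2) (a := 250000) (b := 400) (by rw [hCc]; norm_num) (by rw [hBc]; norm_num) Nat.prime_three (by norm_num)
  obtain ⟨c, hc⟩ := exists_conj_le Nat.prime_three (A := zpowers (⟨g, mem_centralizer_singleton_iff.2 hgf⟩ : C))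
    (IsPGroup.of_card (n := a) (by rw [Nat.card_zpowers, Subgroup.orderOf_mk, hg])) hidx
  have h3 := (mem_subgroupOf.1 (hc _ (mem_zpowers _))).2
  have h4 : (c : G) * g * (c : G)⁻¹ * L.t = L.t * ((c : G) * g * (c : G)⁻¹) := mem_centralizer_singleton_iff.1 h3
  refine ⟨(c : G)⁻¹ * L.t * c, ?_, ?_⟩
  · have h5 := CpAutLy.McLThree.orderOf_conj' (c : G)⁻¹ L.t
    rw [inv_inv] at h5
    rw [h5]
    exact H513.NilpLy.order_t L
  · have h5 := CpAutLy.McLThree.conj_comm (c : G)⁻¹ h4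
    have h6 : (c : G)⁻¹ * ((c : G) * g * (c : G)⁻¹) * (c : G)⁻¹⁻¹ = g := by group
    rw [h6, inv_inv] at h5
    exact h5.symm

/-- a 3-element with centralizer of odd order -/
theorem not_dvd_of_odd (hf : Five L f) (h7 : ¬ 5 ^ 7 ∣ Nat.card G) {g : G} {a : ℕ} (hg : orderOf g = 3 ^ a)
    (hodd : ¬ 2 ∣ Nat.card (centralizer ({g} : Set G))) : ¬ 5 ^ 4 ∣ Nat.card (centralizer ({g} : Set G)) := by
  have h5F : Fact (Nat.Prime 5) := ⟨Nat.prime_five⟩
  intro h
  obtain ⟨T, hT⟩ := Sylow.exists_subgroup_card_pow_prime 5 h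
  set T' := T.map (centralizer ({g} : Set G)).subtype with hT'
  have hT'c : Nat.card T' = 5 ^ 4 := by rw [hT', card_map_of_injective (subtype_injective _), hT]
  obtain ⟨c, hc⟩ := exists_conj_mem hf h7 (IsPGroup.of_card hT'c) (by rw [hT'c])
  obtain ⟨y, -, hy⟩ := hc
  have hyg : (y : G) * g = g * y := mem_centralizer_singleton_iff.1 y.2
  have hy' : (y : G) = c * f * c⁻¹ := hy
  rw [hy'] at hyg
  have h1 := CpAutLy.McLThree.conj_comm c⁻¹ hyg
  have h2 : c⁻¹ * (c * f * c⁻¹) * c⁻¹⁻¹ = f := by group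
  rw [h2] at h1
  obtain ⟨s, hs, hsg⟩ := exists_inv_of_comm hf (g := c⁻¹ * g * c⁻¹⁻¹) (a := a)
    (by rw [CpAutLy.McLThree.orderOf_conj', hg]) h1.symm
  have h3 := CpAutLy.McLThree.conj_comm c hsg
  have h4 : c * (c⁻¹ * g * c⁻¹⁻¹) * c⁻¹ = g := by group
  rw [h4] at h3
  apply hodd
  have h5 := Subgroup.orderOf_dvd_natCard (centralizer ({g} : Set G)) (mem_centralizer_singleton_iff.2 h3)
  rwa [CpAutLy.McLThree.orderOf_conj', hs] at h5

end Cfsg.Agent.H204.Ore.LyFive
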