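import Cfsg.Agent.H438.Fpr.LyC
import Cfsg.Agent.H799.PB.Ly67
import Cfsg.Agent.H215.CC.LyThirtySeven
import Cfsg.Agent.H204.Ore.LyEven

/-!
# ORE (S2443), row Ly: elements of order 7, 11, 31, 37, 67 (helper204)

`big` : `|C(v)| ≤ 1008`, and a `{3, 5}`-element commuting with `v` has order 1 or 3.
-/

set_option autoImplicit false

namespace Cfsg.Agent.H204.Ore.LySmall

open Subgroup Cfsg Cfsg.Agent Cfsg.Agent.H438.Fpr.Ly
open Cfsg.Agent.CpAutLy.Types Cfsg.Agent.CpAutLy.Base Cfsg.Agent.H940.Eng Cfsg.Agent.H715.Fpr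

abbrev G : Type := Cfsg.Spor.Ly

theorem card : Nat.card G = 51765179004000000 := Cfsg.Agent.Ly.Setup.card_ly

theorem fin : Finite G := Cfsg.Agent.Ly.Setup.finite_ly

/-- elements of order 7 -/
theorem card7 {v : G} (hv : orderOf v = 7) :
    Nat.card (centralizer ({v} : Set G)) ∣ 1008 ∧ ¬ 3 ^ 2 ∣ Nat.card (centralizer ({v} : Set G)) := by
  have := fin
  constructor
  · rw [← H314.LyOrb.card_normalizer_seven hv]
    exact card_dvd_of_le (H799.PB.Ly67.cent_le_normalizer v)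
  · obtain ⟨x₀, h₀⟩ := exists_three
    obtain ⟨y, hy, hyx⟩ := exists_of_three h₀ (r := 7) (by norm_num) (by norm_num)
    rw [cent_of_order (by norm_num) (by rw [card]; norm_num) hv hy]
    have h1 : nn y x₀ ∣ 3 * 14 := nn_three h₀ (by norm_num) (by norm_num) (fun P hP =>
      (H904.McLCent.seven h₀.quot P hP).1) hy hyx
    refine H438.Fpr.Gen.not_sq_of_one (x := ⟨x₀, mem_centralizer_singleton_iff.2 hyx.symm⟩) Nat.prime_three
      (by rw [Subgroup.orderOf_mk, h₀.ord]) ?_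
    rw [nn_eq']
    intro h2
    exact absurd (h2.trans h1) (by norm_num)

theorem orderOf_dvd_cent {v g : G} (h : g * v = v * g) : orderOf g ∣ Nat.card (centralizer ({v} : Set G)) :=
  Subgroup.orderOf_dvd_natCard _ (mem_centralizer_singleton_iff.2 h)

theorem dvd_three_of {n a b c : ℕ} (h : n ∣ 3 ^ a * 5 ^ b) (hc : n ∣ c) (h9 : ¬ 3 ^ 2 ∣ c) (h5 : ¬ 5 ∣ c) : n ∣ 3 := by
  have h1 : n ∣ 3 ^ a := by
    refine Nat.Coprime.dvd_of_dvd_mul_right (Nat.Coprime.pow_right b ?_) h
    exact ((Nat.Prime.coprime_iff_not_dvd Nat.prime_five).2 fun h => h5 (h.trans hc)).symm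
  obtain ⟨i, -, rfl⟩ := (Nat.dvd_prime_pow Nat.prime_three).1 h1
  have h2 : i ≤ 1 := by
    by_contra hi
    exact h9 ((pow_dvd_pow 3 (by omega)).trans hc)
  exact (pow_dvd_pow 3 h2).trans (by norm_num)

/-- elements of order 67 -/
theorem card67 {v : G} (hv : orderOf v = 67) : Nat.card (centralizer ({v} : Set G)) = 67 := by
  have := fin
  have : Fact (Nat.Prime 67) := ⟨by norm_num⟩
  obtain ⟨n, hn⟩ := IsPGroup.iff_card.1 (H799.PB.Ly67.isPGroup_cent hv)
  have h1 : Nat.card (centralizer ({v} : Set G)) ∣ 51765179004000000 := by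
    rw [← card]; exact card_subgroup_dvd_card _
  have h2 := orderOf_dvd_cent (v := v) (g := v) rfl
  rw [hn] at h1 h2 ⊢
  rw [hv] at h2
  have h3 : n ≤ 1 := by
    by_contra h3
    exact absurd ((pow_dvd_pow 67 (by omega : 2 ≤ n)).trans h1) (by norm_num)
  interval_cases n
  · revert h2; norm_num
  · norm_num

theorem card31 {v : G} (hv : orderOf v = 31) : Nat.card (centralizer ({v} : Set G)) = 31 := by
  have h := (cn31 (R := zpowers v) (by rw [Nat.card_zpowers, hv])).1
  rwa [cent_zpowers'] at h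

/-- **elements of order `7, 11, 31, 37, 67`** -/
theorem big (hK : H995.CopEngine.AllKnown.{0}) {q : ℕ} (hq : q.Prime) (h7 : 7 ≤ q) (hd : q ∣ Nat.card G) {v : G}
    (hv : orderOf v = q) : Nat.card (centralizer ({v} : Set G)) ≤ 1008 ∧
    ∀ (g : G) (a b : ℕ), g * v = v * g → orderOf g ∣ 3 ^ a * 5 ^ b → orderOf g ∣ 3 := by
  have := fin
  have h0 : q = 7 ∨ q = 11 ∨ q = 31 ∨ q = 37 ∨ q = 67 := by
    rw [card, show 51765179004000000 = 2 ^ 8 * 3 ^ 7 * 5 ^ 6 * 7 * 11 * 31 * 37 * 67 by norm_num,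
      hq.dvd_mul, hq.dvd_mul, hq.dvd_mul, hq.dvd_mul, hq.dvd_mul, hq.dvd_mul, hq.dvd_mul] at hd
    have e : ∀ p : ℕ, p.Prime → q ∣ p → q = p := fun p hp h => (Nat.prime_dvd_prime_iff_eq hq hp).1 h
    rcases hd with ((((((h | h) | h) | h) | h) | h) | h) | h
    · have := e 2 Nat.prime_two (hq.dvd_of_dvd_pow h); omega
    · have := e 3 Nat.prime_three (hq.dvd_of_dvd_pow h); omega
    · have := e 5 Nat.prime_five (hq.dvd_of_dvd_pow h); omega
    · have := e 7 (by norm_num) h; omega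
    · have := e 11 (by norm_num) h; omega
    · have := e 31 (by norm_num) h; omega
    · have := e 37 (by norm_num) h; omega
    · have := e 67 (by norm_num) h; omega
  rcases h0 with rfl | rfl | rfl | rfl | rfl
  · obtain ⟨h1, h2⟩ := card7 hv
    exact ⟨Nat.le_of_dvd (by norm_num) h1, fun g a b hg ho => dvd_three_of ho (orderOf_dvd_cent hg) h2
      fun h => absurd (h.trans h1) (by norm_num)⟩
  · have h1 := cent11 hv
    exact ⟨(Nat.le_of_dvd (by norm_num) h1).trans (by norm_num), fun g a b hg ho =>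
      dvd_three_of ho ((orderOf_dvd_cent hg).trans h1) (by norm_num) (by norm_num)⟩
  · have h1 := card31 hv
    exact ⟨by rw [h1]; norm_num, fun g a b hg ho =>
      dvd_three_of ho ((orderOf_dvd_cent hg).trans h1.dvd) (by norm_num) (by norm_num)⟩
  · have h1 := H215.CC.LyThirtySeven.card_centralizer hK (G := G) ⟨MulEquiv.refl _⟩ hv
    exact ⟨by rw [h1]; norm_num, fun g a b hg ho =>
      dvd_three_of ho ((orderOf_dvd_cent hg).trans h1.dvd) (by norm_num) (by norm_num)⟩
  · have h1 := card67 hv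
    exact ⟨by rw [h1]; norm_num, fun g a b hg ho =>
      dvd_three_of ho ((orderOf_dvd_cent hg).trans h1.dvd) (by norm_num) (by norm_num)⟩

end Cfsg.Agent.H204.Ore.LySmall
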