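import Cfsg.Agent.R10.FiveComm
import Cfsg.Agent.H204.Ore.LyFive
import Cfsg.Agent.H204.Ore.LySmall

/-!
# ORE (S2443), row Ly: the elements with centralizer of odd order (helper204)

`card_le_odd` : `|C(g)| ≤ 273375` for `g ≠ 1` with `|C(g)|` odd.
-/

set_option autoImplicit false

namespace Cfsg.Agent.H204.Ore.LyOdd

open Subgroup Cfsg Cfsg.Agent Cfsg.Agent.H204.Ore.LyEven Cfsg.Agent.H204.Ore.LySmall

abbrev G : Type := Cfsg.Spor.Ly

/-- a number with prime divisors 3 and 5 only -/
theorem dvd_of_primes {m : ℕ} (hm : m ∣ 51765179004000000) (h : ∀ p : ℕ, p.Prime → p ∣ m → p = 3 ∨ p = 5) :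
    m ∣ 3 ^ 7 * 5 ^ 6 := by
  rw [show 51765179004000000 = 3 ^ 7 * 5 ^ 6 * (2 ^ 8 * 7 * 11 * 31 * 37 * 67) by norm_num] at hm
  refine Nat.Coprime.dvd_of_dvd_mul_right ?_ hm
  refine Nat.coprime_of_dvd fun p hp hpm hpd => ?_
  rcases h p hp hpm with rfl | rfl
  · revert hpd; norm_num
  · revert hpd; norm_num

theorem exists_involution_three {g : G} (hg : orderOf g = 3) : ∃ s : G, orderOf s = 2 ∧ s * g = g * s := by
  have := fin
  obtain ⟨x₀, h₀⟩ := H582.Ly.exists_tdata_ly
  exact H582.Ly.fact_a card h₀ hg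

theorem two_dvd_of_comm {g s : G} (hs : orderOf s = 2) (hsg : s * g = g * s) :
    2 ∣ Nat.card (centralizer ({g} : Set G)) := by
  rw [← hs]
  exact orderOf_dvd_cent hsg

/-- a `{3, 5}`-element or an element with small centralizer -/
theorem cases (hK : H995.CopEngine.AllKnown.{0}) {g : G} (h2 : ¬ 2 ∣ orderOf g) :
    Nat.card (centralizer ({g} : Set G)) ≤ 1008 ∨ orderOf g ∣ 3 ^ 7 * 5 ^ 6 := by
  have := fin
  by_cases hb : ∃ q : ℕ, q.Prime ∧ 7 ≤ q ∧ q ∣ orderOf g
  · left
    obtain ⟨q, hq, h7, hd⟩ := hb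
    obtain ⟨k, hk⟩ := exists_pow_prime hq hd
    exact (card_cent_le_of_pow g k).trans (big hK hq h7 (hd.trans (orderOf_dvd_natCard g)) hk).1
  · right
    push Not at hb
    refine dvd_of_primes (by rw [← card]; exact orderOf_dvd_natCard g) fun p hp hpd => ?_
    have h7 : p < 7 := by
      by_contra h
      exact hb p hp (by omega) hpd
    have hp2 : p ≠ 2 := by
      rintro rfl
      exact h2 hpd
    have := hp.two_le
    interval_cases p
    · exact absurd rfl hp2
    · exact Or.inl rfl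
    · exact absurd hp (by norm_num)
    · exact Or.inr rfl
    · exact absurd hp (by norm_num)

/-- **elements with centralizer of odd order** -/
theorem card_le_odd (hK : H995.CopEngine.AllKnown.{0}) {g : G} (hg1 : g ≠ 1)
    (hodd : ¬ 2 ∣ Nat.card (centralizer ({g} : Set G))) : Nat.card (centralizer ({g} : Set G)) ≤ 273375 := by
  have := fin
  obtain ⟨L, f, hf⟩ := H799.PB.exists_lyType
  have hself : orderOf g ∣ Nat.card (centralizer ({g} : Set G)) := orderOf_dvd_cent rfl
  rcases cases hK (g := g) (fun h => hodd (h.trans hself)) with h | ho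
  · exact h.trans (by norm_num)
  set c := Nat.card (centralizer ({g} : Set G)) with hc
  have hc0 : c ≠ 0 := Nat.card_pos.ne'
  -- `c` is a `{3, 5}`-number
  have hc1 : c ∣ 3 ^ 7 * 5 ^ 6 := by
    refine dvd_of_primes (by rw [← card]; exact card_subgroup_dvd_card _) fun p hp hpd => ?_
    by_contra hcon
    push Not at hcon
    have hp2 : p ≠ 2 := by
      rintro rfl
      exact hodd hpd
    have h7 : 7 ≤ p := by
      have := hp.two_le
      by_contra h
      push Not at h
      interval_cases p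
      · exact hp2 rfl
      · exact hcon.1 rfl
      · exact absurd hp (by norm_num)
      · exact hcon.2 rfl
      · exact absurd hp (by norm_num)
    have hpF : Fact p.Prime := ⟨hp⟩
    obtain ⟨v, hv⟩ := exists_prime_orderOf_dvd_card' p hpd
    have hv' : orderOf (v : G) = p := by rw [Subgroup.orderOf_coe, hv]
    have hvg : (v : G) * g = g * v := mem_centralizer_singleton_iff.1 v.2
    have h3 := (big hK hp h7 (by rw [← hv']; exact orderOf_dvd_natCard _) hv').2 g 7 6 hvg.symm ho
    have h3' : orderOf g = 3 := by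
      rcases (Nat.dvd_prime Nat.prime_three).1 h3 with h | h
      · exact absurd (orderOf_eq_one_iff.1 h) hg1
      · exact h
    obtain ⟨s, hs, hsg⟩ := exists_involution_three h3'
    exact hodd (two_dvd_of_comm hs hsg)
  by_cases h5 : 5 ∣ orderOf g
  · obtain ⟨k, hk⟩ := exists_pow_prime Nat.prime_five h5
    obtain ⟨s, hs, hsw⟩ := R10.FiveComm.exists_involution (k := g ^ k) (by rw [← hk, pow_orderOf_eq_one])
    obtain ⟨x, hx⟩ := LyFive.conj_into_core hf hk hs hsw
    have hx1 : x * g ^ k * x⁻¹ ≠ 1 := by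
      intro h
      have h1 := CpAutLy.McLThree.orderOf_conj' x (g ^ k)
      rw [h, orderOf_one, hk] at h1
      omega
    have h3 := LyFive.three_part hf card hx hx1
    rw [← CpAutLy.McLThree.card_cent_conj (x := g ^ k) (g := x) rfl] at h3
    have h4 : ¬ 3 ^ (2 + 1) ∣ c := fun h => h3 (h.trans (card_dvd_of_le (cent_pow_le g k)))
    have h6 := H438.Fpr.Ly.dvd_of_not_pow Nat.prime_three hc0 hc1 h4
    exact (Nat.le_of_dvd (by norm_num) h6).trans (by norm_num)
  · have h3 : orderOf g ∣ 3 ^ 7 := by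
      refine Nat.Coprime.dvd_of_dvd_mul_right (Nat.Coprime.pow_right 6 ?_) ho
      exact ((Nat.Prime.coprime_iff_not_dvd Nat.prime_five).2 h5).symm
    obtain ⟨a, -, ha⟩ := (Nat.dvd_prime_pow Nat.prime_three).1 h3
    have h4 : ¬ 5 ^ (3 + 1) ∣ c := LyFive.not_dvd_of_odd hf (by rw [card]; norm_num) ha hodd
    have h6 := H438.Fpr.Ly.dvd_of_not_pow (b := 3 ^ 7) Nat.prime_five hc0 (by rwa [mul_comm] at hc1) h4
    exact (Nat.le_of_dvd (by norm_num) h6).trans (by norm_num)

end Cfsg.Agent.H204.Ore.LyOdd
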