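import Mathlib

/-!
# ORE (S2443), row Ly: permutations of eleven letters (helper204)

`exists_inverter` : a permutation of eleven letters all whose cycles have length 3, 5 or 9 is inverted by a permutation of
type `2 ^ 4`.
-/

set_option autoImplicit false

namespace Cfsg.Agent.H204.Ore.LyPerm

open Equiv

/-- inverted by a permutation of type `2 ^ 4` -/
def Inv8 (σ : Perm (Fin 11)) : Prop :=
  ∃ τ : Perm (Fin 11), τ * τ = 1 ∧ τ.support.card = 8 ∧ τ ∈ alternatingGroup (Fin 11) ∧ τ * σ * τ⁻¹ = σ⁻¹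

theorem Inv8.of_type {σ σ₀ : Perm (Fin 11)} (h : Inv8 σ₀) (hct : σ.cycleType = σ₀.cycleType) : Inv8 σ := by
  obtain ⟨τ, h1, h2, h3, h4⟩ := h
  obtain ⟨ρ, hρ⟩ := isConj_iff.1 (Perm.isConj_iff_cycleType_eq.2 hct.symm)
  refine ⟨ρ * τ * ρ⁻¹, ?_, ?_, ?_, ?_⟩
  · calc ρ * τ * ρ⁻¹ * (ρ * τ * ρ⁻¹) = ρ * (τ * τ) * ρ⁻¹ := by group
      _ = 1 := by rw [h1]; group
  · rw [← Perm.sum_cycleType, Perm.cycleType_conj, Perm.sum_cycleType, h2]
  · exact (alternatingGroup.normal).conj_mem _ h3 ρ
  · rw [← hρ]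
    calc ρ * τ * ρ⁻¹ * (ρ * σ₀ * ρ⁻¹) * (ρ * τ * ρ⁻¹)⁻¹ = ρ * (τ * σ₀ * τ⁻¹) * ρ⁻¹ := by group
      _ = ρ * σ₀⁻¹ * ρ⁻¹ := by rw [h4]
      _ = _ := by group

/-- the check -/
def chk (σ τ : Perm (Fin 11)) : Bool :=
  decide (τ * τ = 1 ∧ τ.support.card = 8 ∧ Perm.sign τ = 1 ∧ τ * σ = σ⁻¹ * τ)

theorem Inv8.of_chk {σ τ : Perm (Fin 11)} (h : chk σ τ = true) : Inv8 σ := by
  obtain ⟨h1, h2, h3, h4⟩ := of_decide_eq_true h
  exact ⟨τ, h1, h2, Perm.mem_alternatingGroup.2 h3, by rw [h4, mul_inv_cancel_right]⟩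

def s0 : Perm (Fin 11) := 1
def s3 : Perm (Fin 11) := swap 0 1 * swap 1 2
def s33 : Perm (Fin 11) := swap 0 1 * swap 1 2 * (swap 3 4 * swap 4 5)
def s333 : Perm (Fin 11) := swap 0 1 * swap 1 2 * (swap 3 4 * swap 4 5) * (swap 6 7 * swap 7 8)
def s5 : Perm (Fin 11) := swap 0 1 * swap 1 2 * swap 2 3 * swap 3 4
def s53 : Perm (Fin 11) := swap 0 1 * swap 1 2 * swap 2 3 * swap 3 4 * (swap 5 6 * swap 6 7)
def s533 : Perm (Fin 11) := swap 0 1 * swap 1 2 * swap 2 3 * swap 3 4 * (swap 5 6 * swap 6 7) * (swap 8 9 * swap 9 10)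
def s55 : Perm (Fin 11) := swap 0 1 * swap 1 2 * swap 2 3 * swap 3 4 * (swap 5 6 * swap 6 7 * swap 7 8 * swap 8 9)
def s9 : Perm (Fin 11) := swap 0 1 * swap 1 2 * swap 2 3 * swap 3 4 * swap 4 5 * swap 5 6 * swap 6 7 * swap 7 8

theorem c0 : chk s0 (swap 0 2 * swap 3 5 * swap 6 7 * swap 8 9) = true := by decide +kernel
theorem c3 : chk s3 (swap 0 2 * swap 3 4 * swap 5 6 * swap 7 8) = true := by decide +kernel
theorem c33 : chk s33 (swap 0 2 * swap 3 5 * swap 6 7 * swap 8 9) = true := by decide +kernel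
theorem c333 : chk s333 (swap 0 2 * swap 3 5 * swap 6 8 * swap 9 10) = true := by decide +kernel
theorem c5 : chk s5 (swap 0 4 * swap 1 3 * swap 5 6 * swap 7 8) = true := by decide +kernel
theorem c53 : chk s53 (swap 0 4 * swap 1 3 * swap 5 7 * swap 8 9) = true := by decide +kernel
theorem c533 : chk s533 (swap 0 4 * swap 1 3 * swap 5 7 * swap 8 10) = true := by decide +kernel
theorem c55 : chk s55 (swap 0 4 * swap 1 3 * swap 5 9 * swap 6 8) = true := by decide +kernel
theorem c9 : chk s9 (swap 0 8 * swap 1 7 * swap 2 6 * swap 3 5) = true := by decide +kernel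

theorem t0 : s0.cycleType = {} := by decide +kernel
theorem t3 : s3.cycleType = {3} := by decide +kernel
theorem t33 : s33.cycleType = {3, 3} := by decide +kernel
theorem t333 : s333.cycleType = {3, 3, 3} := by decide +kernel
theorem t5 : s5.cycleType = {5} := by decide +kernel
theorem t53 : s53.cycleType = {3, 5} := by decide +kernel
theorem t533 : s533.cycleType = {3, 3, 5} := by decide +kernel
theorem t55 : s55.cycleType = {5, 5} := by decide +kernel
theorem t9 : s9.cycleType = {9} := by decide +kernel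

/-- **the inverting permutation** -/
theorem exists_inverter {σ : Perm (Fin 11)} (h : ∀ n ∈ σ.cycleType, n = 3 ∨ n = 5 ∨ n = 9) : Inv8 σ := by
  have hm : σ.cycleType = Multiset.replicate (σ.cycleType.count 3) 3 + Multiset.replicate (σ.cycleType.count 5) 5 +
      Multiset.replicate (σ.cycleType.count 9) 9 := by
    ext n
    rw [Multiset.count_add, Multiset.count_add, Multiset.count_replicate, Multiset.count_replicate,
      Multiset.count_replicate]
    by_cases hn : n ∈ σ.cycleType
    · rcases h n hn with rfl | rfl | rfl <;> simp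
    · rw [Multiset.count_eq_zero_of_notMem hn]
      symm
      rw [Nat.add_eq_zero_iff, Nat.add_eq_zero_iff]
      refine ⟨⟨?_, ?_⟩, ?_⟩
      · split_ifs with h1
        · subst h1; exact Multiset.count_eq_zero_of_notMem hn
        · rfl
      · split_ifs with h1
        · subst h1; exact Multiset.count_eq_zero_of_notMem hn
        · rfl
      · split_ifs with h1
        · subst h1; exact Multiset.count_eq_zero_of_notMem hn
        · rfl
  have hs : σ.cycleType.sum ≤ 11 := by
    rw [σ.sum_cycleType]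
    exact (Finset.card_le_univ _).trans (by simp)
  generalize σ.cycleType.count 3 = a at hm
  generalize σ.cycleType.count 5 = b at hm
  generalize σ.cycleType.count 9 = c at hm
  rw [hm, Multiset.sum_add, Multiset.sum_add, Multiset.sum_replicate, Multiset.sum_replicate, Multiset.sum_replicate,
    smul_eq_mul, smul_eq_mul, smul_eq_mul] at hs
  have hc : c ≤ 1 := by omega
  have hb : b ≤ 2 := by omega
  have ha : a ≤ 3 := by omega
  interval_cases c <;> interval_cases b <;> interval_cases a <;> first | omega | skip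
  · exact (Inv8.of_chk c0).of_type (hm.trans (by rw [t0]; decide))
  · exact (Inv8.of_chk c3).of_type (hm.trans (by rw [t3]; decide))
  · exact (Inv8.of_chk c33).of_type (hm.trans (by rw [t33]; decide))
  · exact (Inv8.of_chk c333).of_type (hm.trans (by rw [t333]; decide))
  · exact (Inv8.of_chk c5).of_type (hm.trans (by rw [t5]; decide))
  · exact (Inv8.of_chk c53).of_type (hm.trans (by rw [t53]; decide))
  · exact (Inv8.of_chk c533).of_type (hm.trans (by rw [t533]; decide))
  · exact (Inv8.of_chk c55).of_type (hm.trans (by rw [t55]; decide))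
  · exact (Inv8.of_chk c9).of_type (hm.trans (by rw [t9]; decide))

/-- the cycles of a permutation of order `3 ^ a * 5 ^ b` -/
theorem parts_of_order {σ : Perm (Fin 11)} {a b : ℕ} (h : orderOf σ ∣ 3 ^ a * 5 ^ b) :
    ∀ n ∈ σ.cycleType, n = 3 ∨ n = 5 ∨ n = 9 := by
  intro n hn
  have h1 : n ∣ 3 ^ a * 5 ^ b := (Perm.dvd_of_mem_cycleType hn).trans h
  have h2 : 2 ≤ n := Perm.two_le_of_mem_cycleType hn
  have h3 : n ≤ 11 := by
    have h4 := Multiset.le_sum_of_mem hn
    rw [σ.sum_cycleType] at h4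
    exact h4.trans ((Finset.card_le_univ _).trans (by simp))
  have key : ∀ p : ℕ, p.Prime → p ∣ n → p = 3 ∨ p = 5 := by
    intro p hp hpn
    rcases hp.dvd_mul.1 (hpn.trans h1) with h5 | h5
    · exact Or.inl ((Nat.prime_dvd_prime_iff_eq hp Nat.prime_three).1 (hp.dvd_of_dvd_pow h5))
    · exact Or.inr ((Nat.prime_dvd_prime_iff_eq hp Nat.prime_five).1 (hp.dvd_of_dvd_pow h5))
  interval_cases n
  · exact absurd (key 2 Nat.prime_two (by norm_num)) (by norm_num)
  · exact Or.inl rfl
  · exact absurd (key 2 Nat.prime_two (by norm_num)) (by norm_num)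
  · exact Or.inr (Or.inl rfl)
  · exact absurd (key 2 Nat.prime_two (by norm_num)) (by norm_num)
  · exact absurd (key 7 (by norm_num) (by norm_num)) (by norm_num)
  · exact absurd (key 2 Nat.prime_two (by norm_num)) (by norm_num)
  · exact Or.inr (Or.inr rfl)
  · exact absurd (key 2 Nat.prime_two (by norm_num)) (by norm_num)
  · exact absurd (key 11 (by norm_num) (by norm_num)) (by norm_num)

end Cfsg.Agent.H204.Ore.LyPerm
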