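import Cfsg.Agent.TypeM.Two
import Cfsg.Agent.H204.Ore.LyPerm

/-!
# ORE (S2443), row Ly: `{3, 5}`-elements commuting with an involution are strongly real (helper204)
-/

set_option autoImplicit false

namespace Cfsg.Agent.H204.Ore.LyReal

open Subgroup Equiv Cfsg.Agent.TypeM.Two Cfsg.Agent.SporRec.TwoAn Cfsg.Agent.H204.Ore.LyPerm

variable {G : Type*} [Group G]

/-- **a `{3, 5}`-element commuting with an involution is inverted by an involution** -/
theorem exists_inverter (L : MT 11 G) {g s : G} (hs : orderOf s = 2) (hsg : s * g = g * s) {a b : ℕ}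
    (hg : orderOf g ∣ 3 ^ a * 5 ^ b) : ∃ u : G, u * u = 1 ∧ u * g * u⁻¹ = g⁻¹ := by
  obtain ⟨h1, h2⟩ := MT.sq_of_orderOf hs
  obtain ⟨L', rfl⟩ := L.exists_rebase h1 h2
  set y : centralizer ({L'.t} : Set G) := ⟨g, L'.mem_iff.2 hsg.symm⟩ with hy
  have hyo : orderOf y = orderOf g := Subgroup.orderOf_mk _ _
  have hodd : Odd (3 ^ a * 5 ^ b) := (Odd.pow (by decide)).mul (Odd.pow (by decide))
  have hy1 : y ^ (3 ^ a * 5 ^ b) = 1 := orderOf_dvd_iff_pow_eq_one.1 (hyo ▸ hg)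
  have hσ : orderOf (L'.K.π y) ∣ 3 ^ a * 5 ^ b := orderOf_dvd_iff_pow_eq_one.2 (by rw [← map_pow, hy1, map_one])
  obtain ⟨τ, t1, t2, t3, t4⟩ := LyPerm.exists_inverter (parts_of_order hσ)
  obtain ⟨w, hw⟩ := L'.K.exists_lift t3
  have hww : w * w = 1 := L'.K.sq_eq_one_iff.2 ⟨by rw [hw, t1], by rw [hw, t2]⟩
  have h3 : w * y * w⁻¹ = y⁻¹ := by
    refine L'.K.odd_lift_unique hodd ?_ ?_ ?_
    · rw [conj_pow, hy1, mul_one, mul_inv_cancel]
    · rw [inv_pow, hy1, inv_one]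
    · rw [map_mul, map_mul, map_inv, map_inv, hw, t4]
  exact ⟨w, congrArg Subtype.val hww, congrArg Subtype.val h3⟩

end Cfsg.Agent.H204.Ore.LyReal
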