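import Cfsg.Agent.H777.Ore.Base
import Cfsg.Agent.H204.Ore.LyReal
import Cfsg.Agent.H204.Ore.LyOdd

/-!
# ORE (S2443) and S4171, row Ly: the reduction to the elements with small centralizer (helper204)

`all_of` : a property of the elements of `Ly` which holds for the elements with square one, for the elements of odd order
inverted by an involution and for all elements `g` with `|C(g)| ≤ 273375` holds for all elements.
-/

set_option autoImplicit false

namespace Cfsg.Agent.H204.Ore.LyMain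

open Subgroup Equiv Cfsg Cfsg.Agent Cfsg.Agent.H204.Ore.LyEven Cfsg.Agent.H204.Ore.LySmall
open Cfsg.Agent.H204.Ore.LyOdd Cfsg.Agent.H777.Ore Cfsg.Agent.SporRec.TwoAn

abbrev G : Type := Cfsg.Spor.Ly

/-- **the reduction** -/
theorem all_of (hK : H995.CopEngine.AllKnown.{0}) {P : G → Prop}
    (hT : ∀ g : G, Nat.card (centralizer ({g} : Set G)) ≤ 273375 → P g) (h1 : ∀ g : G, g * g = 1 → P g)
    (hr : ∀ g u : G, u * u = 1 → u * g * u⁻¹ = g⁻¹ → Odd (orderOf g) → P g) (g : G) : P g := by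
  have := fin
  have : Fact (Nat.Prime 2) := ⟨Nat.prime_two⟩
  by_cases hg : g * g = 1
  · exact h1 g hg
  have hg1 : g ≠ 1 := fun h => hg (by rw [h, mul_one])
  by_cases h2 : 2 ∣ Nat.card (centralizer ({g} : Set G))
  swap
  · exact hT g (card_le_odd hK hg1 h2)
  obtain ⟨L, f, hf⟩ := H799.PB.exists_lyType
  by_cases h3 : 2 ∣ orderOf g
  · exact hT g ((card_le_even L hf h3 hg).trans (by norm_num))
  rcases cases hK h3 with h | h
  · exact hT g (h.trans (by norm_num))
  obtain ⟨s, hs⟩ := exists_prime_orderOf_dvd_card' 2 h2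
  obtain ⟨M⟩ := TypeM.FactsLy.exists_mt_ly
  obtain ⟨u, hu, hug⟩ := LyReal.exists_inverter M (g := g) (s := (s : G)) (by rw [Subgroup.orderOf_coe, hs])
    (mem_centralizer_singleton_iff.1 s.2) h
  exact hr g u hu hug (by rw [← Nat.not_even_iff_odd, even_iff_two_dvd]; exact h3)

/-- involutions are commutators -/
theorem isC_of_sq {g : G} (hg : g * g = 1) : IsC g := by
  by_cases hg1 : g = 1
  · rw [hg1]; exact isC_one
  obtain ⟨M⟩ := TypeM.FactsLy.exists_mt_ly
  obtain ⟨c, hc⟩ := M.one g hg hg1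
  rw [← hc]
  refine IsC.conj ?_ c
  -- `t` is a commutator in `C(t) = 2.A₁₁`
  obtain ⟨a, ha⟩ := M.K.exists_lift (Cover.swap_mul_swap_mem (0 : Fin 11) 1 2 3 (by decide) (by decide))
  obtain ⟨b, hb⟩ := M.K.exists_lift (Cover.swap_mul_swap_mem (0 : Fin 11) 2 1 3 (by decide) (by decide))
  have h1 := M.K.anticomm (a := (0 : Fin 11)) (b := 1) (c := 2) (d := 3) (by decide) (by decide) (by decide) (by decide)
    (by decide) (by decide) ha hb
  have h2 : M.K.z = b⁻¹ * a⁻¹ * b⁻¹⁻¹ * a⁻¹⁻¹ := by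
    have h3 : (a * b)⁻¹ * (b * a) = M.K.z := by rw [h1, inv_mul_cancel_left]
    rw [← h3]
    group
  exact ⟨((b⁻¹ : centralizer ({M.t} : Set G)) : G), ((a⁻¹ : centralizer ({M.t} : Set G)) : G),
    M.hz.symm.trans (congrArg Subtype.val h2)⟩

/-- `Ore`, from `T1` -/
theorem allC_of (hK : H995.CopEngine.AllKnown.{0})
    (hT : ∀ g : G, Nat.card (centralizer ({g} : Set G)) ≤ 273375 → IsC g) : AllC G :=
  all_of hK hT (fun _ => isC_of_sq) fun _ _ _ h2 h3 => isC_of_real_odd h2 h3

/-- four involutions, from `T1` -/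
theorem inv4_of (hK : H995.CopEngine.AllKnown.{0})
    (hT : ∀ g : G, Nat.card (centralizer ({g} : Set G)) ≤ 273375 → I4 g) : Inv4 G :=
  all_of hK hT (fun g hg => ⟨g, 1, 1, 1, hg, by simp, by simp, by simp, by simp⟩) fun g u h1 h2 _ => by
    have h3 : u⁻¹ = u := inv_eq_of_mul_eq_one_left h1
    rw [h3] at h2
    refine ⟨u, u * g, 1, 1, h1, ?_, by simp, by simp, ?_⟩
    · calc u * g * (u * g) = (u * g * u) * g := by group
        _ = 1 := by rw [h2, inv_mul_cancel]
    · rw [mul_one, mul_one, ← mul_assoc, h1, one_mul]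

end Cfsg.Agent.H204.Ore.LyMain
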