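import Cfsg.Agent.H511.Ore.RowLy
import Cfsg.Agent.H854.Ore.FourT
import Cfsg.Agent.H204.Ore.LyMain

/-!
# ORE (S2443) and S4171: the Lyons group (helper204)

* `ore_Ly` : every element is a commutator;
* `four_Ly` : every element is a product of four elements with square one.
`hK` : the classification (universe 0), `fun _ _ _ _ => S0000.result`.
-/

set_option autoImplicit false

namespace Cfsg.Agent.H204.Ore.Ly

open Subgroup Cfsg Cfsg.Agent Cfsg.Agent.H777.Ore

universe u

theorem ore_model (hK : H995.CopEngine.AllKnown.{0}) : AllC Spor.Ly :=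
  LyMain.allC_of hK fun g hg => H511.Ore.Ly.t1_ly' hK g (hg.trans (by norm_num))

theorem exists_x : ∃ x : Spor.Ly, orderOf x = 31 ∧ H854.Ore.SR x := by
  have := LySmall.fin
  have : Fact (Nat.Prime 31) := ⟨by norm_num⟩
  obtain ⟨x, hx⟩ := H511.Ore.Ly.ex 31 (by norm_num) (by norm_num)
  refine ⟨x, hx, H854.Ore.invert_of_card (by norm_num) hx (H511.Ore.Ly.card31 hx) ?_⟩
  rw [(H256.Sep.RowLy.data31 (R := zpowers x) (by rw [Nat.card_zpowers, hx])).2]
  norm_num

theorem four_model (hK : H995.CopEngine.AllKnown.{0}) : Inv4 Spor.Ly := by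
  obtain ⟨x, hx, hr⟩ := exists_x
  refine LyMain.inv4_of hK fun g hg => ?_
  obtain ⟨a, b, hab⟩ := H511.Ore.Ly.prd_ly hK hx hx (g := g) (hg.trans (by norm_num))
  obtain ⟨u, v, hu, hv, e1⟩ := hr.two a
  obtain ⟨u', v', hu', hv', e2⟩ := hr.two b
  exact ⟨u, v, u', v', hu, hv, hu', hv', by rw [← hab, e1, e2]; group⟩

/-- **The row `Ly` of S2443.** -/
theorem ore_Ly (hK : H995.CopEngine.AllKnown.{0}) {S : Type*} [Group S] (h : Spor.IsoLy S) : AllC S := by
  obtain ⟨e⟩ := h
  exact (ore_model hK).congr e.symm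

theorem i4_map {G H : Type*} [Group G] [Group H] (e : G →* H) {g : G} (h : I4 g) : I4 (e g) := by
  obtain ⟨a, b, c, d, ha, hb, hc, hd, rfl⟩ := h
  refine ⟨e a, e b, e c, e d, ?_, ?_, ?_, ?_, by simp only [map_mul]⟩ <;> rw [← map_mul]
  · rw [ha, map_one]
  · rw [hb, map_one]
  · rw [hc, map_one]
  · rw [hd, map_one]

/-- **The row `Ly` of S4171.** -/
theorem four_Ly (hK : H995.CopEngine.AllKnown.{0}) {S : Type*} [Group S] (h : Spor.IsoLy S) : Inv4 S := by
  obtain ⟨e⟩ := h
  intro g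
  have h1 := i4_map e.symm.toMonoidHom (four_model hK (e g))
  simpa using h1

end Cfsg.Agent.H204.Ore.Ly
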